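-- Team project CHO (S1082): packages [ST-D4-k], one proof for `k = 0, 1, 2` (helper87).
import Mathlib
import Cfsg.Agent.Lib.Helper99.CHO.Defs2
import Cfsg.Agent.Lib.Helper46.CHO.FinD4

/-!
# The reduction step for `Ω₈⁺`: an isometry monomial on `k` hyperbolic pairs becomes monomial on
`k + 1` pairs after multiplication by root elements
-/

set_option autoImplicit false
open scoped MatrixGroups
open Matrix

namespace Cfsg.Agent.Lib.Helper87.CHO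
open Cfsg.Agent.Lib.Helper99.CHO Cfsg.Agent.Lib.Helper46.CHO

universe u

/-! ### the root vectors in the table are `± (E[p,q] - E[q',p'])` -/

/-- root `ε_j - ε_i`: index and sign -/
def rootA : ℕ → ℕ → ℕ × ℤ
  | 0, 1 => (5, 1) | 0, 2 => (4, -1) | 0, 3 => (2, 1)
  | 1, 0 => (18, 1) | 1, 2 => (9, 1) | 1, 3 => (7, -1)
  | 2, 0 => (19, -1) | 2, 1 => (14, 1) | 2, 3 => (10, 1)
  | 3, 0 => (21, 1) | 3, 1 => (16, -1) | 3, 2 => (13, 1)
  | _, _ => (0, 1)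

/-- root `- ε_i - ε_j`: index and sign -/
def rootB : ℕ → ℕ → ℕ × ℤ
  | 0, 1 => (0, 1) | 0, 2 => (1, 1) | 0, 3 => (3, 1)
  | 1, 2 => (6, -1) | 1, 3 => (8, -1) | 2, 3 => (11, 1)
  | 1, 0 => (0, -1) | 2, 0 => (1, -1) | 3, 0 => (3, -1)
  | 2, 1 => (6, 1) | 3, 1 => (8, 1) | 3, 2 => (11, -1)
  | _, _ => (0, 1)

/-- root `ε_i + ε_j`: index and sign -/
def rootD : ℕ → ℕ → ℕ × ℤ
  | 0, 1 => (23, 1) | 0, 2 => (22, 1) | 0, 3 => (20, 1)
  | 1, 2 => (17, -1) | 1, 3 => (15, -1) | 2, 3 => (12, 1)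
  | 1, 0 => (23, -1) | 2, 0 => (22, -1) | 3, 0 => (20, -1)
  | 2, 1 => (17, 1) | 3, 1 => (15, 1) | 3, 2 => (12, -1)
  | _, _ => (0, 1)

/-- the shape of a root vector -/
def RootSpec (rs : ℕ × ℤ) (p q q' p' : Fin 4 ⊕ Fin 4) : Prop :=
  rs.1 < 24 ∧ (rs.2 = 1 ∨ rs.2 = -1) ∧ ∀ a c : Fin 4 ⊕ Fin 4,
    tab3 nListD4 rs.1 (ix8 a) (ix8 c) =
      rs.2 * ((if p = a ∧ q = c then 1 else 0) - (if q' = a ∧ p' = c then 1 else 0))

instance (rs : ℕ × ℤ) (p q q' p' : Fin 4 ⊕ Fin 4) : Decidable (RootSpec rs p q q' p') := by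
  unfold RootSpec; infer_instance

set_option maxRecDepth 100000 in
theorem rootA_spec : ∀ i j : Fin 4, i ≠ j →
    RootSpec (rootA i.val j.val) (Sum.inl j) (Sum.inl i) (Sum.inr i) (Sum.inr j) := by
  decide

set_option maxRecDepth 100000 in
theorem rootB_spec : ∀ i j : Fin 4, i ≠ j →
    RootSpec (rootB i.val j.val) (Sum.inr j) (Sum.inl i) (Sum.inr i) (Sum.inl j) := by
  decide

set_option maxRecDepth 100000 in
theorem rootD_spec : ∀ i j : Fin 4, i ≠ j →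
    RootSpec (rootD i.val j.val) (Sum.inl i) (Sum.inr j) (Sum.inl j) (Sum.inr i) := by
  decide

theorem RootSpec.swap {rs : ℕ × ℤ} {p q q' p' : Fin 4 ⊕ Fin 4} (h : RootSpec rs p q q' p') :
    RootSpec (rs.1, -rs.2) q' p' p q := by
  refine ⟨h.1, ?_, fun a c => ?_⟩
  · rcases h.2.1 with h1 | h1
    · right; show -rs.2 = -1; rw [h1]
    · left; show -rs.2 = 1; rw [h1]; rfl
  · show tab3 nListD4 rs.1 (ix8 a) (ix8 c) = -rs.2 * _
    rw [h.2.2 a c]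
    ring

section
variable {K : Type u} [Field K]

theorem ND4_eq_of {rs : ℕ × ℤ} {p q q' p' : Fin 4 ⊕ Fin 4} (h : RootSpec rs p q q' p') :
    ND4 K rs.1 = (rs.2 : K) • (Matrix.single p q (1 : K) - Matrix.single q' p' 1) := by
  ext a c
  simp only [ND4, Matrix.of_apply, h.2.2 a c, Matrix.smul_apply, Matrix.sub_apply, Matrix.single,
    smul_eq_mul]
  push_cast
  rfl

theorem ED4mat_mulVec_of {rs : ℕ × ℤ} {p q q' p' : Fin 4 ⊕ Fin 4} (h : RootSpec rs p q q' p')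
    (t : K) (v : Fin 4 ⊕ Fin 4 → K) :
    ED4mat K rs.1 t *ᵥ v
      = v + (t * rs.2 * v q) • Pi.single p 1 - (t * rs.2 * v p') • Pi.single q' 1 := by
  funext a
  simp only [ED4mat, ND4_eq_of h, Matrix.add_mulVec, Matrix.one_mulVec, Matrix.smul_mulVec,
    Matrix.sub_mulVec, Matrix.single_mulVec_eq, Pi.add_apply, Pi.sub_apply, Pi.smul_apply,
    smul_eq_mul, one_mul]
  ring

/-- the root element with a prescribed action -/
theorem move_of_spec (hU : PkgUnitD4.{u}) {rs : ℕ × ℤ} {p q q' p' : Fin 4 ⊕ Fin 4}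
    (h : RootSpec rs p q q' p') (t : K) :
    ∃ ρ : GL (Fin 4 ⊕ Fin 4) K, ρ ∈ RD4 K ∧ ∀ v : Fin 4 ⊕ Fin 4 → K,
      ρ.1 *ᵥ v = v + (t * v q) • Pi.single p 1 - (t * v p') • Pi.single q' 1 := by
  have hlt : rs.1 < Cfsg.Lie.chevD4.nroots := h.1
  refine ⟨ED4 K ⟨rs.1, hlt⟩ (t * rs.2), Subgroup.subset_closure ⟨(⟨rs.1, hlt⟩, t * rs.2), rfl⟩,
    fun v => ?_⟩
  have hcoe : (ED4 K ⟨rs.1, hlt⟩ (t * rs.2)).1 = ED4mat K rs.1 (t * rs.2) := by
    unfold ED4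
    rw [dif_pos (hU K rs.1 (t * rs.2) h.1)]
    exact IsUnit.unit_spec _
  rw [hcoe, ED4mat_mulVec_of h]
  have hs : ((rs.2 : ℤ) : K) * (rs.2 : K) = 1 := by
    rcases h.2.1 with h1 | h1 <;> rw [h1] <;> simp
  have e : ∀ x : K, t * rs.2 * rs.2 * x = t * x := fun x => by rw [mul_assoc t, hs, mul_one]
  rw [e, e]

section moves
variable {ρ : GL (Fin 4 ⊕ Fin 4) K} {p q q' p' : Fin 4 ⊕ Fin 4} {t : K}

theorem move_apply_p
    (hf : ∀ v : Fin 4 ⊕ Fin 4 → K,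
      ρ.1 *ᵥ v = v + (t * v q) • Pi.single p 1 - (t * v p') • Pi.single q' 1)
    (hpq : p ≠ q') (u : Fin 4 ⊕ Fin 4 → K) : (ρ.1 *ᵥ u) p = u p + t * u q := by
  rw [hf u]
  simp [Pi.single_apply, hpq]

theorem move_apply_q
    (hf : ∀ v : Fin 4 ⊕ Fin 4 → K,
      ρ.1 *ᵥ v = v + (t * v q) • Pi.single p 1 - (t * v p') • Pi.single q' 1)
    (hpq : p ≠ q') (u : Fin 4 ⊕ Fin 4 → K) : (ρ.1 *ᵥ u) q' = u q' - t * u p' := by
  rw [hf u]
  simp [Pi.single_apply, Ne.symm hpq]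

theorem move_apply_other
    (hf : ∀ v : Fin 4 ⊕ Fin 4 → K,
      ρ.1 *ᵥ v = v + (t * v q) • Pi.single p 1 - (t * v p') • Pi.single q' 1)
    (u : Fin 4 ⊕ Fin 4 → K) (d : Fin 4 ⊕ Fin 4) (hd : d ≠ p) (hd' : d ≠ q') :
    (ρ.1 *ᵥ u) d = u d := by
  rw [hf u]
  simp [Pi.single_apply, hd, hd']

theorem move_fix
    (hf : ∀ v : Fin 4 ⊕ Fin 4 → K,
      ρ.1 *ᵥ v = v + (t * v q) • Pi.single p 1 - (t * v p') • Pi.single q' 1)
    (u : Fin 4 ⊕ Fin 4 → K) (h1 : u q = 0) (h2 : u p' = 0) : ρ.1 *ᵥ u = u := by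
  rw [hf u, h1, h2]
  simp

end moves

/-- the index of the hyperbolic pair of a coordinate -/
def pairIdx : Fin 4 ⊕ Fin 4 → Fin 4 := Sum.elim id id

theorem eD_apply_ne (l : Fin 4) (c : Fin 4 ⊕ Fin 4) (h : pairIdx c ≠ l) : eD K l c = 0 := by
  rcases c with j | j
  · have : j ≠ l := h
    simp [eD, Pi.single_apply, this]
  · simp [eD, Pi.single_apply]

theorem fD_apply_ne (l : Fin 4) (c : Fin 4 ⊕ Fin 4) (h : pairIdx c ≠ l) : fD K l c = 0 := by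
  rcases c with j | j
  · simp [fD, Pi.single_apply]
  · have : j ≠ l := h
    simp [fD, Pi.single_apply, this]

/-- elements of `R` fixing the first `k` hyperbolic pairs -/
def Good (k : ℕ) (ρ : GL (Fin 4 ⊕ Fin 4) K) : Prop :=
  ρ ∈ RD4 K ∧ ∀ i : Fin 4, i.val < k → ρ.1 *ᵥ eD K i = eD K i ∧ ρ.1 *ᵥ fD K i = fD K i

theorem good_one (k : ℕ) : Good k (1 : GL (Fin 4 ⊕ Fin 4) K) :=
  ⟨one_mem _, fun i _ => by simp⟩

theorem good_mul {k : ℕ} {ρ ρ' : GL (Fin 4 ⊕ Fin 4) K} (h : Good k ρ) (h' : Good k ρ') :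
    Good k (ρ * ρ') := by
  refine ⟨mul_mem h.1 h'.1, fun i hi => ?_⟩
  rw [Units.val_mul, ← Matrix.mulVec_mulVec, ← Matrix.mulVec_mulVec, (h'.2 i hi).1,
    (h'.2 i hi).2]
  exact h.2 i hi

theorem good_of_move {k : ℕ} {ρ : GL (Fin 4 ⊕ Fin 4) K} {p q q' p' : Fin 4 ⊕ Fin 4} {t : K}
    (hρ : ρ ∈ RD4 K)
    (hf : ∀ v : Fin 4 ⊕ Fin 4 → K,
      ρ.1 *ᵥ v = v + (t * v q) • Pi.single p 1 - (t * v p') • Pi.single q' 1)
    (hq : k ≤ (pairIdx q).val) (hp : k ≤ (pairIdx p').val) : Good k ρ := by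
  refine ⟨hρ, fun i hi => ⟨?_, ?_⟩⟩
  · refine move_fix hf _ (eD_apply_ne i q ?_) (eD_apply_ne i p' ?_)
    · intro h; rw [h] at hq; omega
    · intro h; rw [h] at hp; omega
  · refine move_fix hf _ (fD_apply_ne i q ?_) (fD_apply_ne i p' ?_)
    · intro h; rw [h] at hq; omega
    · intro h; rw [h] at hp; omega

/-- clearing a set of coordinates with a pivot -/
theorem kill_all (P : GL (Fin 4 ⊕ Fin 4) K → Prop) (h1 : P 1)
    (hmul : ∀ ρ ρ', P ρ → P ρ' → P (ρ * ρ')) (pv pv' : Fin 4 ⊕ Fin 4) (hpp : pv ≠ pv')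
    (S : Finset (Fin 4 ⊕ Fin 4))
    (hS : ∀ c ∈ S, c ≠ pv ∧ c ≠ pv' ∧ ∀ t : K, ∃ ρ : GL (Fin 4 ⊕ Fin 4) K, P ρ ∧
      ∀ u : Fin 4 ⊕ Fin 4 → K, (ρ.1 *ᵥ u) c = u c + t * u pv ∧
        ∀ d, d ≠ c → d ≠ pv' → (ρ.1 *ᵥ u) d = u d)
    (v : Fin 4 ⊕ Fin 4 → K) (hv : v pv ≠ 0) :
    ∃ ρ : GL (Fin 4 ⊕ Fin 4) K, P ρ ∧ (ρ.1 *ᵥ v) pv = v pv ∧ ∀ c ∈ S, (ρ.1 *ᵥ v) c = 0 := by
  classical
  induction S using Finset.induction_on with
  | empty => exact ⟨1, h1, by simp, by simp⟩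
  | insert c S hc ih =>
    obtain ⟨ρ, hρ, hpv, hz⟩ := ih (fun d hd => hS d (Finset.mem_insert_of_mem hd))
    obtain ⟨hc1, hc2, hmv⟩ := hS c (Finset.mem_insert_self c S)
    obtain ⟨ρ', hρ', hact⟩ := hmv (-((ρ.1 *ᵥ v) c) / (ρ.1 *ᵥ v) pv)
    have hne : (ρ.1 *ᵥ v) pv ≠ 0 := by rw [hpv]; exact hv
    refine ⟨ρ' * ρ, hmul _ _ hρ' hρ, ?_, ?_⟩
    · rw [Units.val_mul, ← Matrix.mulVec_mulVec, (hact _).2 pv (Ne.symm hc1) hpp, hpv]
    · intro d hd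
      rw [Units.val_mul, ← Matrix.mulVec_mulVec]
      rcases Finset.mem_insert.mp hd with rfl | hd
      · rw [(hact _).1]
        field_simp
        ring
      · have hdc : d ≠ c := fun h => hc (h ▸ hd)
        rw [(hact _).2 d hdc (hS d (Finset.mem_insert_of_mem hd)).2.1]
        exact hz d hd

end

section
variable {K : Type u} [Field K]

/-- the coordinates of the pairs after `k` -/
def laterSet (k : Fin 4) : Finset (Fin 4 ⊕ Fin 4) :=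
  Finset.univ.filter (fun c => k < pairIdx c)

theorem mem_laterSet (k : Fin 4) (c : Fin 4 ⊕ Fin 4) : c ∈ laterSet k ↔ k < pairIdx c := by
  simp [laterSet]

theorem mono_of_good {k : ℕ} {ρ : GL (Fin 4 ⊕ Fin 4) K} (h : Good k ρ) : MonoD4 K k ρ :=
  fun i hi => ⟨1, one_ne_zero, by rw [(h.2 i hi).1, one_smul],
    by rw [(h.2 i hi).2, inv_one, one_smul]⟩

/-- an isometry monomial on the first `k` pairs preserves the vectors vanishing there -/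
theorem supp_of_mono {k : ℕ} {g : GL (Fin 4 ⊕ Fin 4) K}
    (hg : g ∈ Cfsg.isometryGroup K (Cfsg.quadFormPlus 4 K)) (hm : MonoD4 K k g)
    (u : Fin 4 ⊕ Fin 4 → K)
    (hu : ∀ i : Fin 4, i.val < k → u (Sum.inl i) = 0 ∧ u (Sum.inr i) = 0) :
    ∀ i : Fin 4, i.val < k → (g.1 *ᵥ u) (Sum.inl i) = 0 ∧ (g.1 *ᵥ u) (Sum.inr i) = 0 := by
  intro i hi
  obtain ⟨a, ha, he, hf⟩ := hm i hi
  constructor
  · have h := iso_polD hg u (fD K i)
    rw [hf, polD_smul_right, polD_fD, polD_fD, (hu i hi).1] at h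
    rcases mul_eq_zero.mp h with h | h
    · exact absurd h (inv_ne_zero ha)
    · exact h
  · have h := iso_polD hg u (eD K i)
    rw [he, polD_smul_right, polD_eD, polD_eD, (hu i hi).2] at h
    rcases mul_eq_zero.mp h with h | h
    · exact absurd h ha
    · exact h

theorem stage1a_aux (hU : PkgUnitD4.{u}) (k : Fin 4) (v : Fin 4 ⊕ Fin 4 → K)
    (h : v (Sum.inl k) ≠ 0 ∨ ∃ j : Fin 4, k < j ∧ (v (Sum.inl j) ≠ 0 ∨ v (Sum.inr j) ≠ 0)) :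
    ∃ ρ : GL (Fin 4 ⊕ Fin 4) K, Good k.val ρ ∧ (ρ.1 *ᵥ v) (Sum.inl k) ≠ 0 := by
  by_cases hx : v (Sum.inl k) ≠ 0
  · exact ⟨1, good_one _, by simpa using hx⟩
  · rw [not_not] at hx
    rcases h with h | ⟨j, hkj, h | h⟩
    · exact absurd hx h
    · have hkj' : k.val < j.val := hkj
      obtain ⟨ρ, hρ, hf⟩ := move_of_spec hU (rootA_spec j k (ne_of_gt hkj)) (1 : K)
      refine ⟨ρ, good_of_move hρ hf (le_of_lt hkj') (le_refl _), ?_⟩
      rw [move_apply_p hf (by simp), hx, zero_add, one_mul]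
      exact h
    · have hkj' : k.val < j.val := hkj
      obtain ⟨ρ, hρ, hf⟩ := move_of_spec hU (rootD_spec k j (ne_of_lt hkj)) (1 : K)
      refine ⟨ρ, good_of_move hρ hf (le_of_lt hkj') (le_refl _), ?_⟩
      rw [move_apply_p hf (by simp [ne_of_lt hkj]), hx, zero_add, one_mul]
      exact h

theorem stage1a (hU : PkgUnitD4.{u}) (k : Fin 4) (hk : k.val < 3) (v : Fin 4 ⊕ Fin 4 → K)
    (hv : v ≠ 0)
    (hsupp : ∀ i : Fin 4, i.val < k.val → v (Sum.inl i) = 0 ∧ v (Sum.inr i) = 0) :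
    ∃ ρ : GL (Fin 4 ⊕ Fin 4) K, Good k.val ρ ∧ (ρ.1 *ᵥ v) (Sum.inl k) ≠ 0 := by
  by_cases hc : v (Sum.inl k) ≠ 0 ∨
      ∃ j : Fin 4, k < j ∧ (v (Sum.inl j) ≠ 0 ∨ v (Sum.inr j) ≠ 0)
  · exact stage1a_aux hU k v hc
  · rw [not_or] at hc
    obtain ⟨hx, hnone⟩ := hc
    rw [not_not] at hx
    have hz : ∀ j : Fin 4, k < j → v (Sum.inl j) = 0 ∧ v (Sum.inr j) = 0 := by
      intro j hj
      by_contra hcon
      apply hnone
      refine ⟨j, hj, ?_⟩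
      by_contra hcon2
      rw [not_or, not_not, not_not] at hcon2
      exact hcon hcon2
    have hy : v (Sum.inr k) ≠ 0 := by
      intro hy
      apply hv
      funext c
      rcases c with i | i
      · rcases lt_trichotomy i k with h | h | h
        · exact (hsupp i h).1
        · rw [h]; exact hx
        · exact (hz i h).1
      · rcases lt_trichotomy i k with h | h | h
        · exact (hsupp i h).2
        · rw [h]; exact hy
        · exact (hz i h).2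
    have hk3 : k < (3 : Fin 4) := hk
    obtain ⟨ρ1, hρ1, hf1⟩ := move_of_spec hU (rootA_spec 3 k (ne_of_gt hk3)) (1 : K)
    have hg1 : Good k.val ρ1 := good_of_move hρ1 hf1 (le_of_lt hk) (le_refl _)
    have h3 : (ρ1.1 *ᵥ v) (Sum.inr 3) ≠ 0 := by
      rw [move_apply_q hf1 (by simp), (hz 3 hk3).2, zero_sub, one_mul]
      exact neg_ne_zero.mpr hy
    obtain ⟨ρ2, hρ2, h2⟩ := stage1a_aux hU k (ρ1.1 *ᵥ v) (Or.inr ⟨3, hk3, Or.inr h3⟩)
    refine ⟨ρ2 * ρ1, good_mul hρ2 hg1, ?_⟩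
    rw [Units.val_mul, ← Matrix.mulVec_mulVec]
    exact h2

theorem stage1 (hU : PkgUnitD4.{u}) (hRO : PkgRoD4.{u}) (k : Fin 4) (hk : k.val < 3)
    (v : Fin 4 ⊕ Fin 4 → K) (hv : v ≠ 0) (hQ : Cfsg.quadFormPlus 4 K v = 0)
    (hsupp : ∀ i : Fin 4, i.val < k.val → v (Sum.inl i) = 0 ∧ v (Sum.inr i) = 0) :
    ∃ ρ : GL (Fin 4 ⊕ Fin 4) K, Good k.val ρ ∧ ∃ a : K, a ≠ 0 ∧ ρ.1 *ᵥ v = a • eD K k := by
  obtain ⟨ρa, hρa, hxa⟩ := stage1a hU k hk v hv hsupp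
  have hS : ∀ c ∈ laterSet k, c ≠ Sum.inl k ∧ c ≠ Sum.inr k ∧ ∀ t : K,
      ∃ ρ : GL (Fin 4 ⊕ Fin 4) K, Good k.val ρ ∧ ∀ u : Fin 4 ⊕ Fin 4 → K,
        (ρ.1 *ᵥ u) c = u c + t * u (Sum.inl k) ∧
          ∀ d, d ≠ c → d ≠ Sum.inr k → (ρ.1 *ᵥ u) d = u d := by
    intro c hc
    rw [mem_laterSet] at hc
    rcases c with j | j
    · have hkj : k < j := hc
      have hkj' : k.val < j.val := hkj
      refine ⟨by simp [ne_of_gt hkj], by simp, fun t => ?_⟩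
      obtain ⟨ρ, hρ, hf⟩ := move_of_spec hU (rootA_spec k j (ne_of_lt hkj)) t
      exact ⟨ρ, good_of_move hρ hf (le_refl _) (le_of_lt hkj'),
        fun u => ⟨move_apply_p hf (by simp) u, fun d hd hd' => move_apply_other hf u d hd hd'⟩⟩
    · have hkj : k < j := hc
      have hkj' : k.val < j.val := hkj
      refine ⟨by simp, by simp [ne_of_gt hkj], fun t => ?_⟩
      obtain ⟨ρ, hρ, hf⟩ := move_of_spec hU (rootB_spec k j (ne_of_lt hkj)) t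
      exact ⟨ρ, good_of_move hρ hf (le_refl _) (le_of_lt hkj'),
        fun u => ⟨move_apply_p hf (by simp [ne_of_gt hkj]) u,
          fun d hd hd' => move_apply_other hf u d hd hd'⟩⟩
  obtain ⟨ρb, hρb, hpv, hz⟩ := kill_all (Good (K := K) k.val) (good_one _)
    (fun _ _ h h' => good_mul h h') (Sum.inl k) (Sum.inr k) (by simp) (laterSet k) hS
    (ρa.1 *ᵥ v) hxa
  have hgood : Good k.val (ρb * ρa) := good_mul hρb hρa
  have hiso := hRO K hgood.1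
  obtain ⟨v2, hv2⟩ : ∃ v2, v2 = (ρb * ρa).1 *ᵥ v := ⟨_, rfl⟩
  have e2 : ρb.1 *ᵥ (ρa.1 *ᵥ v) = v2 := by rw [hv2, Units.val_mul, Matrix.mulVec_mulVec]
  rw [e2] at hpv hz
  have hs2 := supp_of_mono hiso (mono_of_good hgood) v hsupp
  rw [← hv2] at hs2
  have hQ2 : Cfsg.quadFormPlus 4 K v2 = 0 := by rw [hv2, iso_quadD hiso, hQ]
  have hx2 : v2 (Sum.inl k) ≠ 0 := by rw [hpv]; exact hxa
  have hlater : ∀ j : Fin 4, k < j → v2 (Sum.inl j) = 0 ∧ v2 (Sum.inr j) = 0 := fun j hj =>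
    ⟨hz _ ((mem_laterSet k _).mpr hj), hz _ ((mem_laterSet k _).mpr hj)⟩
  have hy2 : v2 (Sum.inr k) = 0 := by
    have h := hQ2
    unfold Cfsg.quadFormPlus at h
    rw [Finset.sum_eq_single k] at h
    · rcases mul_eq_zero.mp h with h | h
      · exact absurd h hx2
      · exact h
    · intro i _ hik
      rcases lt_or_gt_of_ne hik with h | h
      · rw [(hs2 i h).1, zero_mul]
      · rw [(hlater i h).1, zero_mul]
    · intro h; exact absurd (Finset.mem_univ k) h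
  refine ⟨ρb * ρa, hgood, v2 (Sum.inl k), hx2, ?_⟩
  rw [← hv2]
  funext c
  rcases c with i | i
  · rcases lt_trichotomy i k with h | h | h
    · rw [(hs2 i h).1]; simp [eD, Pi.single_apply, ne_of_lt h]
    · subst h; simp [eD]
    · rw [(hlater i h).1]; simp [eD, Pi.single_apply, ne_of_gt h]
  · rcases lt_trichotomy i k with h | h | h
    · rw [(hs2 i h).2]; simp [eD]
    · subst h; rw [hy2]; simp [eD]
    · rw [(hlater i h).2]; simp [eD]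

theorem stage2 (hU : PkgUnitD4.{u}) (hRO : PkgRoD4.{u}) (k : Fin 4)
    (w : Fin 4 ⊕ Fin 4 → K) (a : K) (ha : a ≠ 0) (hy : w (Sum.inr k) = a⁻¹)
    (hQ : Cfsg.quadFormPlus 4 K w = 0)
    (hsupp : ∀ i : Fin 4, i.val < k.val → w (Sum.inl i) = 0 ∧ w (Sum.inr i) = 0) :
    ∃ ρ : GL (Fin 4 ⊕ Fin 4) K, Good k.val ρ ∧ ρ.1 *ᵥ eD K k = eD K k ∧
      ρ.1 *ᵥ w = a⁻¹ • fD K k := by
  have hS : ∀ c ∈ laterSet k, c ≠ Sum.inr k ∧ c ≠ Sum.inl k ∧ ∀ t : K,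
      ∃ ρ : GL (Fin 4 ⊕ Fin 4) K, (Good k.val ρ ∧ ρ.1 *ᵥ eD K k = eD K k) ∧
        ∀ u : Fin 4 ⊕ Fin 4 → K, (ρ.1 *ᵥ u) c = u c + t * u (Sum.inr k) ∧
          ∀ d, d ≠ c → d ≠ Sum.inl k → (ρ.1 *ᵥ u) d = u d := by
    intro c hc
    rw [mem_laterSet] at hc
    rcases c with j | j
    · have hkj : k < j := hc
      have hkj' : k.val < j.val := hkj
      refine ⟨by simp, by simp [ne_of_gt hkj], fun t => ?_⟩
      obtain ⟨ρ, hρ, hf⟩ := move_of_spec hU (rootD_spec j k (ne_of_gt hkj)) t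
      refine ⟨ρ, ⟨good_of_move hρ hf (le_refl _) (le_of_lt hkj'), move_fix hf _ ?_ ?_⟩,
        fun u => ⟨move_apply_p hf (by simp [ne_of_gt hkj]) u,
          fun d hd hd' => move_apply_other hf u d hd hd'⟩⟩
      · simp [eD]
      · simp [eD]
    · have hkj : k < j := hc
      have hkj' : k.val < j.val := hkj
      refine ⟨by simp [ne_of_gt hkj], by simp, fun t => ?_⟩
      obtain ⟨ρ, hρ, hf⟩ := move_of_spec hU (rootA_spec j k (ne_of_gt hkj)).swap t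
      refine ⟨ρ, ⟨good_of_move hρ hf (le_refl _) (le_of_lt hkj'), move_fix hf _ ?_ ?_⟩,
        fun u => ⟨move_apply_p hf (by simp) u,
          fun d hd hd' => move_apply_other hf u d hd hd'⟩⟩
      · simp [eD]
      · simp [eD, Pi.single_apply, ne_of_gt hkj]
  have hyne : w (Sum.inr k) ≠ 0 := by rw [hy]; exact inv_ne_zero ha
  obtain ⟨ρ, ⟨hgood, hfix⟩, hpv, hz⟩ := kill_all
    (fun ρ : GL (Fin 4 ⊕ Fin 4) K => Good k.val ρ ∧ ρ.1 *ᵥ eD K k = eD K k)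
    ⟨good_one _, by simp⟩
    (fun ρ ρ' h h' => ⟨good_mul h.1 h'.1,
      by rw [Units.val_mul, ← Matrix.mulVec_mulVec, h'.2, h.2]⟩)
    (Sum.inr k) (Sum.inl k) (by simp) (laterSet k) hS w hyne
  have hiso := hRO K hgood.1
  have hs2 := supp_of_mono hiso (mono_of_good hgood) w hsupp
  have hQ2 : Cfsg.quadFormPlus 4 K (ρ.1 *ᵥ w) = 0 := by rw [iso_quadD hiso, hQ]
  have hlater : ∀ j : Fin 4, k < j →
      (ρ.1 *ᵥ w) (Sum.inl j) = 0 ∧ (ρ.1 *ᵥ w) (Sum.inr j) = 0 := fun j hj =>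
    ⟨hz _ ((mem_laterSet k _).mpr hj), hz _ ((mem_laterSet k _).mpr hj)⟩
  have hx2 : (ρ.1 *ᵥ w) (Sum.inl k) = 0 := by
    have h := hQ2
    unfold Cfsg.quadFormPlus at h
    rw [Finset.sum_eq_single k] at h
    · rcases mul_eq_zero.mp h with h | h
      · exact h
      · rw [hpv] at h; exact absurd h hyne
    · intro i _ hik
      rcases lt_or_gt_of_ne hik with h | h
      · rw [(hs2 i h).1, zero_mul]
      · rw [(hlater i h).1, zero_mul]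
    · intro h; exact absurd (Finset.mem_univ k) h
  refine ⟨ρ, hgood, hfix, ?_⟩
  funext c
  rcases c with i | i
  · rcases lt_trichotomy i k with h | h | h
    · rw [(hs2 i h).1]; simp [fD]
    · subst h; rw [hx2]; simp [fD]
    · rw [(hlater i h).1]; simp [fD]
  · rcases lt_trichotomy i k with h | h | h
    · rw [(hs2 i h).2]; simp [fD, Pi.single_apply, ne_of_lt h]
    · subst h; rw [hpv, hy]; simp [fD]
    · rw [(hlater i h).2]; simp [fD, Pi.single_apply, ne_of_gt h]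

end

/-- the reduction step, uniformly in `k` -/
theorem stD4 (hU : PkgUnitD4.{u}) (hRO : PkgRoD4.{u}) (k : Fin 4) (hk : k.val < 3)
    (K : Type u) [Field K] (g : GL (Fin 4 ⊕ Fin 4) K)
    (hg : g ∈ Cfsg.isometryGroup K (Cfsg.quadFormPlus 4 K)) (hm : MonoD4 K k.val g) :
    ∃ ρ ∈ RD4 K, MonoD4 K (k.val + 1) (ρ * g) := by
  have hQe : Cfsg.quadFormPlus 4 K (eD K k) = 0 := by simp [Cfsg.quadFormPlus, eD]
  have hQf : Cfsg.quadFormPlus 4 K (fD K k) = 0 := by simp [Cfsg.quadFormPlus, fD]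
  have hsuppe : ∀ i : Fin 4, i.val < k.val →
      eD K k (Sum.inl i) = 0 ∧ eD K k (Sum.inr i) = 0 := by
    intro i hi
    have hne : i ≠ k := fun h => by rw [h] at hi; exact lt_irrefl _ hi
    exact ⟨eD_apply_ne k _ hne, by simp [eD]⟩
  have hsuppf : ∀ i : Fin 4, i.val < k.val →
      fD K k (Sum.inl i) = 0 ∧ fD K k (Sum.inr i) = 0 := by
    intro i hi
    have hne : i ≠ k := fun h => by rw [h] at hi; exact lt_irrefl _ hi
    exact ⟨by simp [fD], fD_apply_ne k _ hne⟩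
  have hv : g.1 *ᵥ eD K k ≠ 0 := by
    intro h0
    have h1 : (g⁻¹).1 *ᵥ (g.1 *ᵥ eD K k) = eD K k := by
      rw [Matrix.mulVec_mulVec, ← Units.val_mul, inv_mul_cancel, Units.val_one,
        Matrix.one_mulVec]
    rw [h0, Matrix.mulVec_zero] at h1
    have h2 := congrFun h1 (Sum.inl k)
    simp [eD] at h2
  obtain ⟨ρ1, hρ1, a, ha, hρ1v⟩ := stage1 hU hRO k hk (g.1 *ᵥ eD K k) hv
    (by rw [iso_quadD hg, hQe]) (supp_of_mono hg hm _ hsuppe)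
  have hg1 : ρ1 * g ∈ Cfsg.isometryGroup K (Cfsg.quadFormPlus 4 K) :=
    Subgroup.mul_mem _ (hRO K hρ1.1) hg
  have hm1 : MonoD4 K k.val (ρ1 * g) := by
    intro i hi
    obtain ⟨b, hb, he, hf⟩ := hm i hi
    refine ⟨b, hb, ?_, ?_⟩
    · rw [Units.val_mul, ← Matrix.mulVec_mulVec, he, Matrix.mulVec_smul, (hρ1.2 i hi).1]
    · rw [Units.val_mul, ← Matrix.mulVec_mulVec, hf, Matrix.mulVec_smul, (hρ1.2 i hi).2]
  have he1 : (ρ1 * g).1 *ᵥ eD K k = a • eD K k := by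
    rw [Units.val_mul, ← Matrix.mulVec_mulVec, hρ1v]
  have hwy : ((ρ1 * g).1 *ᵥ fD K k) (Sum.inr k) = a⁻¹ := by
    have h := iso_polD hg1 (fD K k) (eD K k)
    rw [he1, polD_smul_right, polD_eD, polD_eD] at h
    have h2 : fD K k (Sum.inr k) = (1 : K) := by simp [fD]
    rw [h2] at h
    calc ((ρ1 * g).1 *ᵥ fD K k) (Sum.inr k)
        = a⁻¹ * (a * ((ρ1 * g).1 *ᵥ fD K k) (Sum.inr k)) := by
          rw [← mul_assoc, inv_mul_cancel₀ ha, one_mul]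
      _ = a⁻¹ := by rw [h, mul_one]
  obtain ⟨ρ2, hρ2, hfix2, hρ2w⟩ := stage2 hU hRO k ((ρ1 * g).1 *ᵥ fD K k) a ha hwy
    (by rw [iso_quadD hg1, hQf]) (supp_of_mono hg1 hm1 _ hsuppf)
  refine ⟨ρ2 * ρ1, mul_mem hρ2.1 hρ1.1, ?_⟩
  intro i hi
  by_cases hik : i.val < k.val
  · obtain ⟨b, hb, he, hf⟩ := hm1 i hik
    refine ⟨b, hb, ?_, ?_⟩
    · rw [mul_assoc, Units.val_mul, ← Matrix.mulVec_mulVec, he, Matrix.mulVec_smul,
        (hρ2.2 i hik).1]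
    · rw [mul_assoc, Units.val_mul, ← Matrix.mulVec_mulVec, hf, Matrix.mulVec_smul,
        (hρ2.2 i hik).2]
  · have hik' : i = k := Fin.ext (by omega)
    subst hik'
    refine ⟨a, ha, ?_, ?_⟩
    · rw [mul_assoc, Units.val_mul, ← Matrix.mulVec_mulVec, he1, Matrix.mulVec_smul, hfix2]
    · rw [mul_assoc, Units.val_mul, ← Matrix.mulVec_mulVec, hρ2w]

/-- [ST-D4-k] for `k = 0, 1, 2` -/
theorem pkgStD4_of (hU : PkgUnitD4.{u}) (hRO : PkgRoD4.{u}) (k : ℕ) (hk : k < 3) :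
    PkgStD4.{u} k := by
  intro K _ g hg hm
  exact stD4 hU hRO ⟨k, by omega⟩ hk K g hg hm

theorem pkgStD4_0_of (hU : PkgUnitD4.{u}) (hRO : PkgRoD4.{u}) : PkgStD4.{u} 0 :=
  pkgStD4_of hU hRO 0 (by norm_num)

theorem pkgStD4_1_of (hU : PkgUnitD4.{u}) (hRO : PkgRoD4.{u}) : PkgStD4.{u} 1 :=
  pkgStD4_of hU hRO 1 (by norm_num)

theorem pkgStD4_2_of (hU : PkgUnitD4.{u}) (hRO : PkgRoD4.{u}) : PkgStD4.{u} 2 :=
  pkgStD4_of hU hRO 2 (by norm_num)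

end Cfsg.Agent.Lib.Helper87.CHO
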